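import Mathlib.CategoryTheory.Abelian.RightDerived
import Mathlib.CategoryTheory.Abelian.FunctorCategory
import Mathlib.Algebra.Category.Grp.Abelian
import Mathlib.Algebra.Category.Grp.Limits
import Mathlib.Algebra.Category.Grp.Ulift
import Mathlib.Algebra.Category.Grp.EpiMono
import Mathlib.Algebra.Homology.ShortComplex.Ab
import Mathlib.CategoryTheory.Functor.OfSequence

/-! # `lim^i = 0` for `i ≥ 2` on towers of abelian groups -/

set_option autoImplicit false
universe u
open CategoryTheory CategoryTheory.Limits Opposite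

namespace Groth.Agent.LimTowerLib

/-- the integers at levels `≤ n` -/
noncomputable def sub (n : ℕ) (m : ℕ) : AddSubgroup (ULift.{u} ℤ) where
  carrier := {z | z = 0 ∨ m ≤ n}
  zero_mem' := Or.inl rfl
  add_mem' := by rintro a b (rfl | ha) hb <;> simp_all
  neg_mem' := by rintro a (rfl | ha) <;> simp_all

lemma sub_mono (n : ℕ) {m m' : ℕ} (h : m' ≤ m) : sub.{u} n m ≤ sub n m' :=
  fun _ hz => hz.imp id fun hm => h.trans hm

lemma sub_mono' {n n' : ℕ} (m : ℕ) (h : n ≤ n') : sub.{u} n m ≤ sub n' m :=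
  fun _ hz => hz.imp id fun hm => hm.trans h

/-- the test tower -/
noncomputable def T (n : ℕ) : ℕᵒᵖ ⥤ AddCommGrpCat.{u} where
  obj m := AddCommGrpCat.of (sub.{u} n m.unop)
  map f := AddCommGrpCat.ofHom (AddSubgroup.inclusion (sub_mono n (leOfHom f.unop)))
  map_id _ := by ext; rfl
  map_comp _ _ := by ext; rfl

/-- `T n ⟶ T (n+1)` -/
noncomputable def incl (n : ℕ) : T.{u} n ⟶ T (n + 1) where
  app m := AddCommGrpCat.ofHom (AddSubgroup.inclusion (sub_mono' m.unop (Nat.le_succ n)))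
  naturality _ _ _ := by ext; rfl

instance (n : ℕ) : Mono (incl.{u} n) := by
  haveI : ∀ m, Mono ((incl.{u} n).app m) := fun m =>
    (AddCommGrpCat.mono_iff_injective _).2
      (AddSubgroup.inclusion_injective (sub_mono' m.unop (Nat.le_succ n)))
  exact NatTrans.mono_of_mono_app _

variable (G : ℕᵒᵖ ⥤ AddCommGrpCat.{u})

/-- the map `T n ⟶ G` attached to an element at level `n` -/
noncomputable def ofElem {n : ℕ} (a : G.obj (op n)) : T.{u} n ⟶ G where
  app m := AddCommGrpCat.ofHom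
    { toFun := fun z => if h : m.unop ≤ n then z.1.down • G.map (homOfLE h).op a else 0
      map_zero' := by split <;> simp
      map_add' := fun z w => by split <;> simp [add_zsmul] }
  naturality m m' f := by
    ext ⟨z, hz⟩
    change (if h : m'.unop ≤ n then z.down • G.map (homOfLE h).op a else 0) =
      G.map f (if h : m.unop ≤ n then z.down • G.map (homOfLE h).op a else 0)
    have hf := leOfHom f.unop
    by_cases hm : m.unop ≤ n
    · rw [dif_pos hm, dif_pos (hf.trans hm), map_zsmul, ← ConcreteCategory.comp_apply, ← G.map_comp]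
      rfl
    · have hz0 : z = 0 := hz.resolve_right hm
      subst hz0
      simp

theorem map_surjective [Injective G] (n : ℕ) :
    Function.Surjective (G.map (homOfLE (Nat.le_succ n)).op) := by
  intro a
  let φ := Injective.factorThru (ofElem G a) (incl n)
  have hφ : incl n ≫ φ = ofElem G a := Injective.comp_factorThru _ _
  let g : (T.{u} (n + 1)).obj (op (n + 1)) := ⟨ULift.up 1, Or.inr le_rfl⟩
  refine ⟨φ.app (op (n + 1)) g, ?_⟩
  rw [← ConcreteCategory.comp_apply, ← φ.naturality]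
  have h := ConcreteCategory.congr_hom (NatTrans.congr_app hφ (op n))
    (⟨ULift.up 1, Or.inr le_rfl⟩ : (T.{u} n).obj (op n))
  refine Eq.trans h ?_
  change (if h : n ≤ n then (1 : ℤ) • G.map (homOfLE h).op a else 0) = a
  rw [dif_pos le_rfl, one_zsmul]
  exact (ConcreteCategory.congr_hom (G.map_id (op n)) a).trans rfl

theorem lim_ext {x y : ((lim : (ℕᵒᵖ ⥤ AddCommGrpCat.{u}) ⥤ _).obj G)}
    (h : ∀ n, limit.π G n x = limit.π G n y) : x = y :=
  Concrete.limit_ext G x y h

theorem exists_lim (s : ∀ n : ℕ, G.obj (op n))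
    (h : ∀ n, G.map (homOfLE (Nat.le_succ n)).op (s (n + 1)) = s n) :
    ∃ x : ((lim : (ℕᵒᵖ ⥤ AddCommGrpCat.{u}) ⥤ _).obj G), ∀ n, limit.π G (op n) x = s n := by
  let mk : ∀ n : ℕ, AddCommGrpCat.of (ULift.{u} ℤ) ⟶ G.obj (op n) := fun n =>
    AddCommGrpCat.ofHom ((zmultiplesHom _ (s n)).comp AddEquiv.ulift.toAddMonoidHom)
  have hmk : ∀ n (z : ULift.{u} ℤ), mk n z = z.down • s n := fun n z => rfl
  let c : Cone G :=
    { pt := AddCommGrpCat.of (ULift.{u} ℤ)
      π := NatTrans.ofOpSequence (fun n => mk n) (fun n => by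
        ext z
        simp only [Functor.const_obj_map, Category.id_comp, AddCommGrpCat.hom_comp]
        change mk n z = G.map _ (mk (n + 1) z)
        rw [hmk, hmk, map_zsmul, h]) }
  refine ⟨limit.lift G c (ULift.up 1), fun n => ?_⟩
  rw [← ConcreteCategory.comp_apply, limit.lift_π]
  change mk n (ULift.up 1) = s n
  rw [hmk, one_zsmul]

theorem isZero_rightDerived [EnoughInjectives (ℕᵒᵖ ⥤ AddCommGrpCat.{u})]
    [(lim : (ℕᵒᵖ ⥤ AddCommGrpCat.{u}) ⥤ AddCommGrpCat.{u}).Additive]
    (A : ℕᵒᵖ ⥤ AddCommGrpCat.{u}) (i : ℕ) (hi : 2 ≤ i) :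
    IsZero (((lim : (ℕᵒᵖ ⥤ AddCommGrpCat.{u}) ⥤ AddCommGrpCat.{u}).rightDerived i).obj A) := by
  obtain ⟨i, rfl⟩ : ∃ j, i = j + 2 := ⟨i - 2, by omega⟩
  let I := injectiveResolution A
  refine IsZero.of_iso ?_ (I.isoRightDerivedObj _ (i + 2))
  change IsZero (HomologicalComplex.homology _ (i + 2))
  rw [← HomologicalComplex.exactAt_iff_isZero_homology,
    HomologicalComplex.exactAt_iff' _ (i + 1) (i + 2) (i + 3) (by simp) (by simp),
    ShortComplex.ab_exact_iff]
  intro x (hx : limMap (I.cocomplex.d (i + 2) (i + 3)) x = 0)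
  -- pointwise exactness
  have hex : ∀ (j : ℕ) (n : ℕ) (y : (I.cocomplex.X (j + 1)).obj (op n)),
      (I.cocomplex.d (j + 1) (j + 2)).app (op n) y = 0 →
        ∃ z, (I.cocomplex.d j (j + 1)).app (op n) z = y := by
    intro j n y hy
    have h := (I.exact_succ j).map ((evaluation ℕᵒᵖ AddCommGrpCat.{u}).obj (op n))
    rw [ShortComplex.ab_exact_iff] at h
    exact h y hy
  have hπ : ∀ (j j' : ℕ) (n : ℕ) (z : ((lim : (ℕᵒᵖ ⥤ AddCommGrpCat.{u}) ⥤ _).obj (I.cocomplex.X j))),
      limit.π (I.cocomplex.X j') (op n) (limMap (I.cocomplex.d j j') z) =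
        (I.cocomplex.d j j').app (op n) (limit.π (I.cocomplex.X j) (op n) z) := fun j j' n z => by
    rw [← ConcreteCategory.comp_apply, limMap_π]; rfl
  have hxn : ∀ n, ∃ y, (I.cocomplex.d (i + 1) (i + 2)).app (op n) y =
      limit.π (I.cocomplex.X (i + 2)) (op n) x := fun n => by
    refine hex (i + 1) n _ ?_
    rw [← hπ, hx, map_zero]
  have hstep : ∀ n (y : (I.cocomplex.X (i + 1)).obj (op n)),
      (I.cocomplex.d (i + 1) (i + 2)).app (op n) y = limit.π (I.cocomplex.X (i + 2)) (op n) x →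
      ∃ y' : (I.cocomplex.X (i + 1)).obj (op (n + 1)),
        (I.cocomplex.d (i + 1) (i + 2)).app (op (n + 1)) y' = limit.π (I.cocomplex.X (i + 2)) (op (n + 1)) x ∧
        (I.cocomplex.X (i + 1)).map (homOfLE (Nat.le_succ n)).op y' = y := by
    intro n y hy
    obtain ⟨w, hw⟩ := hxn (n + 1)
    set t := (homOfLE (Nat.le_succ n)).op
    have hw' : (I.cocomplex.d (i + 1) (i + 2)).app (op n) ((I.cocomplex.X (i + 1)).map t w) =
        limit.π (I.cocomplex.X (i + 2)) (op n) x := by
      rw [← ConcreteCategory.comp_apply, (I.cocomplex.d (i + 1) (i + 2)).naturality,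
        ConcreteCategory.comp_apply, hw, ← ConcreteCategory.comp_apply, limit.w]
    obtain ⟨z, hz⟩ := hex i n ((I.cocomplex.X (i + 1)).map t w - y) (by rw [map_sub, hw', hy, sub_self])
    obtain ⟨z', hz'⟩ := map_surjective (I.cocomplex.X i) n z
    refine ⟨w - (I.cocomplex.d i (i + 1)).app (op (n + 1)) z', ?_, ?_⟩
    · rw [map_sub, hw, sub_eq_self, ← ConcreteCategory.comp_apply, ← NatTrans.comp_app,
        HomologicalComplex.d_comp_d]
      rfl
    · rw [map_sub, ← ConcreteCategory.comp_apply, ← (I.cocomplex.d i (i + 1)).naturality,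
        ConcreteCategory.comp_apply, hz', hz, sub_sub_cancel]
  choose step h1 h2 using hstep
  let s : ∀ n, {y : (I.cocomplex.X (i + 1)).obj (op n) //
      (I.cocomplex.d (i + 1) (i + 2)).app (op n) y = limit.π (I.cocomplex.X (i + 2)) (op n) x} :=
    fun n => Nat.rec ⟨(hxn 0).choose, (hxn 0).choose_spec⟩
      (fun m p => ⟨step m p.1 p.2, h1 m p.1 p.2⟩) n
  obtain ⟨w, hw⟩ := exists_lim (I.cocomplex.X (i + 1)) (fun n => (s n).1)
    (fun n => h2 n (s n).1 (s n).2)
  refine ⟨w, lim_ext (I.cocomplex.X (i + 2)) fun n => ?_⟩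
  obtain ⟨n⟩ := n
  change limit.π (I.cocomplex.X (i + 2)) (op n) (limMap (I.cocomplex.d (i + 1) (i + 2)) w) = _
  rw [hπ, hw]
  exact (s n).2

end Groth.Agent.LimTowerLib
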